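import Mathlib.Algebra.Polynomial.Laurent
import Mathlib.RingTheory.GradedAlgebra.HomogeneousLocalization
import Mathlib.RingTheory.Localization.Away.Basic
import Mathlib.RingTheory.Flat.Basic

/-!
# `A_h = A_(h)[T, T⁻¹]` when `A_h` contains a unit of degree one

For an `ℕ`-graded ring `A` and `h` homogeneous such that `A_h` contains a unit `u` of degree one,
`A_(h)[T;T⁻¹] → A_h`, `T ↦ u`, is bijective; in particular `A_h` is free over `A_(h)`.
-/

set_option autoImplicit false
universe u

namespace K960.LaurentAway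

open HomogeneousLocalization LaurentPolynomial

variable {A : Type u} [CommRing A] (𝒜 : ℕ → AddSubgroup A) [GradedRing 𝒜]

/-- a unit `u` of `A_h` is of degree one: elements of `𝒜 n` are `u ^ n` times elements of
degree zero, and so is the inverse of `h`. -/
structure IsUnitDegOne (h : A) (e : ℕ) (u : (Localization.Away h)ˣ) : Prop where
  mem : h ∈ 𝒜 e
  exists_val : ∀ (n : ℕ) (a : A), a ∈ 𝒜 n →
    ∃ z : Away 𝒜 h, z.val * (u : Localization.Away h) ^ n = algebraMap A _ a
  exists_inv : ∃ w : Away 𝒜 h, w.val * algebraMap A _ h = (u : Localization.Away h) ^ e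
  exists_frac : ∃ (d : ℕ) (f g : A), f ∈ 𝒜 d ∧ g ∈ 𝒜 (d + 1) ∧
    IsUnit (algebraMap A (Localization.Away h) f) ∧
    algebraMap A (Localization.Away h) f * u = algebraMap A _ g

variable {𝒜} {h : A} {e : ℕ} {u : (Localization.Away h)ˣ} (H : IsUnitDegOne 𝒜 h e u)

/-- `a / u ^ n` for `a` homogeneous of degree `n`. -/
noncomputable def frac (n : ℕ) (a : A) (ha : a ∈ 𝒜 n) : Away 𝒜 h :=
  (H.exists_val n a ha).choose

theorem val_frac_mul (n : ℕ) (a : A) (ha : a ∈ 𝒜 n) :
    (frac H n a ha).val * (u : Localization.Away h) ^ n = algebraMap A (Localization.Away h) a :=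
  (H.exists_val n a ha).choose_spec

theorem eq_frac_iff (n : ℕ) (a : A) (ha : a ∈ 𝒜 n) (z : Away 𝒜 h) :
    z = frac H n a ha ↔ z.val * (u : Localization.Away h) ^ n =
      algebraMap A (Localization.Away h) a := by
  rw [HomogeneousLocalization.ext_iff_val, ← val_frac_mul H n a ha]
  constructor
  · intro h; rw [h]
  · intro h
    exact (u.isUnit.pow n).mul_left_injective h

/-- the component `a ↦ (a / u ^ n) T ^ n` -/
noncomputable def comp (n : ℕ) : 𝒜 n →+ (Away 𝒜 h)[T;T⁻¹] where
  toFun a := C (frac H n a.1 a.2) * T n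
  map_zero' := by
    have : frac H n (0 : 𝒜 n).1 (0 : 𝒜 n).2 = 0 := by
      symm; rw [eq_frac_iff]; simp
    rw [this]; simp
  map_add' a b := by
    have : frac H n (a + b).1 (a + b).2 = frac H n a.1 a.2 + frac H n b.1 b.2 := by
      symm; rw [eq_frac_iff, HomogeneousLocalization.val_add, add_mul, val_frac_mul, val_frac_mul]
      simp
    rw [this, map_add, add_mul]

theorem comp_one : comp H 0 (GradedMonoid.GOne.one (A := fun i => 𝒜 i)) = 1 := by
  change C (frac H 0 1 _) * T ((0 : ℕ) : ℤ) = 1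
  have : frac H 0 1 SetLike.GradedOne.one_mem = 1 := by
    symm; rw [eq_frac_iff]; simp
  rw [this]; simp

theorem comp_mul {i j : ℕ} (a : 𝒜 i) (b : 𝒜 j) :
    comp H (i + j) (GradedMonoid.GMul.mul (A := fun i => 𝒜 i) a b) = comp H i a * comp H j b := by
  change C (frac H (i + j) (a.1 * b.1) _) * T ((i + j : ℕ) : ℤ) =
    (C (frac H i a.1 a.2) * T (i : ℤ)) * (C (frac H j b.1 b.2) * T (j : ℤ))
  have : frac H (i + j) (a.1 * b.1) (SetLike.mul_mem_graded a.2 b.2) =
      frac H i a.1 a.2 * frac H j b.1 b.2 := by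
    symm
    rw [eq_frac_iff, HomogeneousLocalization.val_mul, map_mul, ← val_frac_mul H i a.1 a.2,
      ← val_frac_mul H j b.1 b.2, pow_add]
    ring
  rw [this, map_mul, Nat.cast_add, T_add]
  ring

/-- `A → A_(h)[T;T⁻¹]`, `Σ a_n ↦ Σ (a_n / u ^ n) T ^ n`. -/
noncomputable def toL : A →+* (Away 𝒜 h)[T;T⁻¹] :=
  (DirectSum.toSemiring (comp H) (comp_one H) (comp_mul H)).comp
    (DirectSum.decomposeRingEquiv 𝒜 : A →+* DirectSum ℕ fun i => 𝒜 i)

theorem toL_of_mem (n : ℕ) (a : A) (ha : a ∈ 𝒜 n) :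
    toL H a = C (frac H n a ha) * T n := by
  have h1 : toL H a = DirectSum.toSemiring (comp H) (comp_one H) (comp_mul H)
    (DirectSum.decompose 𝒜 a) := rfl
  rw [h1, DirectSum.decompose_of_mem 𝒜 ha, DirectSum.toSemiring_of]
  rfl

theorem isUnit_frac_self : IsUnit (frac H e h H.mem) := by
  obtain ⟨w, hw⟩ := H.exists_inv
  refine IsUnit.of_mul_eq_one w ?_
  apply HomogeneousLocalization.val_injective
  rw [HomogeneousLocalization.val_mul, HomogeneousLocalization.val_one]
  apply (u.isUnit.pow e).mul_left_injective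
  change (frac H e h H.mem).val * w.val * (u : Localization.Away h) ^ e =
    1 * (u : Localization.Away h) ^ e
  rw [mul_right_comm, val_frac_mul, one_mul, ← hw, mul_comm]

theorem isUnit_toL_self : IsUnit (toL H h) := by
  rw [toL_of_mem H e h H.mem]
  exact ((isUnit_frac_self H).map C).mul (isUnit_T _)

/-- `A_h → A_(h)[T;T⁻¹]`. -/
noncomputable def toL' : Localization.Away h →+* (Away 𝒜 h)[T;T⁻¹] :=
  IsLocalization.Away.lift (S := Localization.Away h) (g := toL H) h (isUnit_toL_self H)

theorem toL'_algebraMap (a : A) : toL' H (algebraMap _ _ a) = toL H a :=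
  IsLocalization.Away.lift_eq (S := Localization.Away h) (g := toL H) h _ a

/-- `A_(h)[T;T⁻¹] → A_h`, `T ↦ u`. -/
noncomputable def fromL (𝒜 : ℕ → AddSubgroup A) [GradedRing 𝒜] {h : A}
    (u : (Localization.Away h)ˣ) : (Away 𝒜 h)[T;T⁻¹] →+* Localization.Away h :=
  LaurentPolynomial.eval₂ (algebraMap (Away 𝒜 h) (Localization.Away h)) u

theorem fromL_C (z : Away 𝒜 h) :
    fromL 𝒜 u (C z) = algebraMap (Away 𝒜 h) (Localization.Away h) z := by
  rw [fromL, eval₂_C]

theorem fromL_T (n : ℤ) :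
    fromL 𝒜 u (T n) = ((u ^ n : (Localization.Away h)ˣ) : Localization.Away h) := by
  rw [fromL, eval₂_T]

theorem fromL_toL (a : A) : fromL 𝒜 u (toL H a) = algebraMap _ _ a := by
  classical
  rw [← DirectSum.sum_support_decompose 𝒜 a, map_sum, map_sum, map_sum]
  refine Finset.sum_congr rfl fun n _ => ?_
  rw [toL_of_mem H n _ (SetLike.coe_mem _), map_mul, fromL_C, fromL_T, zpow_natCast,
    Units.val_pow_eq_pow_val, HomogeneousLocalization.algebraMap_apply, val_frac_mul]

theorem fromL_toL' (a : Localization.Away h) : fromL 𝒜 u (toL' H a) = a := by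
  have h : (fromL 𝒜 u).comp (toL' H) = RingHom.id _ := by
    apply IsLocalization.ringHom_ext (Submonoid.powers h)
    ext a
    rw [RingHom.comp_apply, RingHom.comp_apply, toL'_algebraMap, fromL_toL]
    rfl
  exact RingHom.congr_fun h a

theorem toL'_algebraMap_away (z : Away 𝒜 h) :
    toL' H (algebraMap (Away 𝒜 h) (Localization.Away h) z) = C z := by
  obtain ⟨n, a, ha, rfl⟩ := Away.mk_surjective 𝒜 H.mem z
  have h1 : (Away.mk 𝒜 H.mem n a ha) * (frac H e h H.mem) ^ n = frac H (n * e) a (by simpa using ha) := by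
    rw [eq_frac_iff, HomogeneousLocalization.val_mul, HomogeneousLocalization.val_pow, mul_assoc,
      mul_comm n e, pow_mul, ← mul_pow, val_frac_mul, Away.val_mk, ← map_pow,
      Localization.mk_eq_mk']
    exact IsLocalization.mk'_spec (M := Submonoid.powers h) (Localization.Away h) a ⟨h ^ n, n, rfl⟩
  have h2 : toL' H (algebraMap (Away 𝒜 h) (Localization.Away h) (Away.mk 𝒜 H.mem n a ha)) *
      toL' H (algebraMap A _ h ^ n) = toL H a := by
    rw [← map_mul, ← toL'_algebraMap H a, HomogeneousLocalization.algebraMap_apply, Away.val_mk,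
      ← map_pow, Localization.mk_eq_mk']
    congr 1
    exact IsLocalization.mk'_spec (M := Submonoid.powers h) (Localization.Away h) a ⟨h ^ n, n, rfl⟩
  have h3 : toL' H (algebraMap A _ h ^ n) = C ((frac H e h H.mem) ^ n) * T ((n * e : ℕ) : ℤ) := by
    rw [map_pow, toL'_algebraMap, toL_of_mem H e h H.mem, mul_pow, T_pow, map_pow, Nat.cast_mul]
  rw [h3, toL_of_mem H (n * e) a (by simpa using ha), ← h1, map_mul] at h2
  have h4 : IsUnit (C ((frac H e h H.mem) ^ n) * T ((n * e : ℕ) : ℤ) : (Away 𝒜 h)[T;T⁻¹]) :=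
    ((((isUnit_frac_self H).pow n).map C).mul (isUnit_T _))
  refine h4.mul_left_injective ?_
  simp only
  rw [h2, mul_assoc]

theorem toL'_unit : toL' H (u : Localization.Away h) = T 1 := by
  obtain ⟨d, f, g, hf, hg, hu, hfg⟩ := H.exists_frac
  have h1 : toL' H (algebraMap A _ f) = C (frac H d f hf) * T d := by
    rw [toL'_algebraMap, toL_of_mem H d f hf]
  have h2 : toL' H (algebraMap A _ g) = C (frac H (d + 1) g hg) * T ((d + 1 : ℕ) : ℤ) := by
    rw [toL'_algebraMap, toL_of_mem H (d + 1) g hg]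
  have h3 : frac H d f hf = frac H (d + 1) g hg := by
    rw [eq_frac_iff, pow_succ, ← mul_assoc, val_frac_mul, hfg]
  have h4 : IsUnit (toL' H (algebraMap A _ f)) := hu.map _
  refine h4.mul_right_injective ?_
  simp only
  rw [← map_mul, hfg, h2, h1, h3, mul_assoc, ← T_add, Nat.cast_add, Nat.cast_one]

theorem toL'_zpow (n : ℤ) :
    toL' H ((u ^ n : (Localization.Away h)ˣ) : Localization.Away h) = T n := by
  have key : ∀ n : ℕ, toL' H ((u ^ n : (Localization.Away h)ˣ) : Localization.Away h) = T n := by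
    intro n
    rw [Units.val_pow_eq_pow_val, map_pow, toL'_unit, T_pow, mul_one]
  rcases Int.eq_nat_or_neg n with ⟨m, rfl | rfl⟩
  · rw [zpow_natCast]; exact key m
  · have h1 : toL' H ((u ^ (-(m : ℤ)) : (Localization.Away h)ˣ) : Localization.Away h) *
        toL' H ((u ^ m : (Localization.Away h)ˣ) : Localization.Away h) = 1 := by
      rw [← map_mul, ← Units.val_mul, ← zpow_natCast, ← zpow_add, neg_add_cancel, zpow_zero,
        Units.val_one, map_one]
    rw [key m] at h1
    have h2 : T (-(m : ℤ)) * T (m : ℤ) = (1 : (Away 𝒜 h)[T;T⁻¹]) := by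
      rw [← T_add, neg_add_cancel, T_zero]
    exact (isUnit_T (m : ℤ)).mul_left_injective (h1.trans h2.symm)

theorem toL'_fromL (p : (Away 𝒜 h)[T;T⁻¹]) : toL' H (fromL 𝒜 u p) = p := by
  induction p using LaurentPolynomial.induction_on' with
  | add p q hp hq => rw [map_add, map_add, hp, hq]
  | C_mul_T n z => rw [map_mul, map_mul, fromL_C, fromL_T, toL'_zpow, toL'_algebraMap_away]

/-- `A_(h)[T;T⁻¹] ≃ A_h` over `A_(h)`, `T ↦ u`. -/
noncomputable def awayEquiv : (Away 𝒜 h)[T;T⁻¹] ≃+* Localization.Away h :=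
  { fromL 𝒜 u with
    toFun := fromL 𝒜 u
    invFun := toL' H
    left_inv := toL'_fromL H
    right_inv := fromL_toL' H }

theorem awayEquiv_C (z : Away 𝒜 h) :
    awayEquiv H (C z) = algebraMap (Away 𝒜 h) (Localization.Away h) z := fromL_C z

include H in
/-- `A_h` is free over `A_(h)`. -/
theorem free_away : Module.Free (Away 𝒜 h) (Localization.Away h) := by
  let E : (Away 𝒜 h)[T;T⁻¹] ≃ₗ[Away 𝒜 h] Localization.Away h :=
    { awayEquiv H with
      map_smul' := fun r x => by
        change awayEquiv H (r • x) = r • awayEquiv H x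
        rw [LaurentPolynomial.smul_eq_C_mul, map_mul, awayEquiv_C, Algebra.smul_def] }
  have : Module.Free (Away 𝒜 h) (Away 𝒜 h)[T;T⁻¹] :=
    Module.Free.of_equiv (AddMonoidAlgebra.coeffLinearEquiv (R := Away 𝒜 h) (S := Away 𝒜 h)
      (M := ℤ)).symm
  exact Module.Free.of_equiv E

/-- the unit `g / f` of degree one of `A_(fg)`. -/
theorem exists_isUnitDegOne {d : ℕ} {f g : A} (hf : f ∈ 𝒜 d) (hg : g ∈ 𝒜 (d + 1)) :
    ∃ u : (Localization.Away (f * g))ˣ, IsUnitDegOne 𝒜 (f * g) (d + (d + 1)) u := by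
  have hmem : f * g ∈ 𝒜 (d + (d + 1)) := SetLike.mul_mem_graded hf hg
  have huh : IsUnit (algebraMap A (Localization.Away (f * g)) (f * g)) :=
    IsLocalization.Away.algebraMap_isUnit (S := Localization.Away (f * g)) (f * g)
  have huf : IsUnit (algebraMap A (Localization.Away (f * g)) f) := by
    rw [map_mul] at huh; exact isUnit_of_mul_isUnit_left huh
  have hug : IsUnit (algebraMap A (Localization.Away (f * g)) g) := by
    rw [map_mul] at huh; exact isUnit_of_mul_isUnit_right huh
  obtain ⟨w, h2⟩ : ∃ w : (Localization.Away (f * g))ˣ,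
      (w : Localization.Away (f * g)) * algebraMap A _ f = algebraMap A _ g := by
    refine ⟨hug.unit * huf.unit⁻¹, ?_⟩
    have h3 : ((huf.unit⁻¹ : (Localization.Away (f * g))ˣ) : Localization.Away (f * g)) *
        algebraMap A _ f = 1 := huf.val_inv_mul
    have h4 : (hug.unit : Localization.Away (f * g)) = algebraMap A _ g := rfl
    rw [Units.val_mul, mul_assoc, h3, mul_one, h4]
  refine ⟨w, hmem, ?_, ?_, ?_⟩
  · intro n a ha
    have hnum : a * f ^ (2 * n) ∈ 𝒜 (n • (d + (d + 1))) := by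
      have := SetLike.mul_mem_graded ha (SetLike.pow_mem_graded (2 * n) hf)
      convert this using 2
      simp only [smul_eq_mul]; ring
    refine ⟨Away.mk 𝒜 hmem n (a * f ^ (2 * n)) hnum, ?_⟩
    have h1 : (Away.mk 𝒜 hmem n (a * f ^ (2 * n)) hnum).val *
        algebraMap A (Localization.Away (f * g)) (f * g) ^ n =
          algebraMap A (Localization.Away (f * g)) (a * f ^ (2 * n)) := by
      rw [Away.val_mk, ← map_pow, Localization.mk_eq_mk']
      exact IsLocalization.mk'_spec (M := Submonoid.powers (f * g)) (Localization.Away (f * g))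
        (a * f ^ (2 * n)) ⟨(f * g) ^ n, n, rfl⟩
    apply (huf.pow (2 * n)).mul_left_injective
    simp only
    rw [← map_pow, ← map_mul, ← h1, map_mul, mul_pow, ← h2]
    generalize (Away.mk 𝒜 hmem n (a * f ^ (2 * n)) hnum).val = z
    rw [map_pow]
    ring
  · have hnum : g ^ (4 * d + 2) ∈ 𝒜 ((2 * d + 2) • (d + (d + 1))) := by
      have := SetLike.pow_mem_graded (4 * d + 2) hg
      convert this using 2
      simp only [smul_eq_mul]; ring
    refine ⟨Away.mk 𝒜 hmem (2 * d + 2) (g ^ (4 * d + 2)) hnum, ?_⟩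
    have h1 : (Away.mk 𝒜 hmem (2 * d + 2) (g ^ (4 * d + 2)) hnum).val *
        algebraMap A (Localization.Away (f * g)) (f * g) ^ (2 * d + 2) =
          algebraMap A (Localization.Away (f * g)) (g ^ (4 * d + 2)) := by
      rw [Away.val_mk, ← map_pow, Localization.mk_eq_mk']
      exact IsLocalization.mk'_spec (M := Submonoid.powers (f * g)) (Localization.Away (f * g))
        (g ^ (4 * d + 2)) ⟨(f * g) ^ (2 * d + 2), 2 * d + 2, rfl⟩
    apply ((huf.pow (2 * d + 1)).mul (huh.pow (2 * d + 1))).mul_left_injective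
    simp only
    generalize (Away.mk 𝒜 hmem (2 * d + 2) (g ^ (4 * d + 2)) hnum).val = z at h1 ⊢
    rw [map_mul, map_pow] at h1
    rw [map_mul]
    generalize algebraMap A (Localization.Away (f * g)) f = F at h1 h2 ⊢
    generalize algebraMap A (Localization.Away (f * g)) g = G at h1 h2 ⊢
    calc z * (F * G) * (F ^ (2 * d + 1) * (F * G) ^ (2 * d + 1))
        = (z * (F * G) ^ (2 * d + 2)) * F ^ (2 * d + 1) := by ring
      _ = G ^ (4 * d + 2) * F ^ (2 * d + 1) := by rw [h1]
      _ = G ^ (2 * d + 1) * (F * G) ^ (2 * d + 1) := by ring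
      _ = (w : Localization.Away (f * g)) ^ (d + (d + 1)) *
            (F ^ (2 * d + 1) * (F * G) ^ (2 * d + 1)) := by
        rw [← mul_assoc]
        congr 1
        rw [← h2]; ring
  · exact ⟨d, f, g, hf, hg, huf, (mul_comm _ _).trans h2⟩

end K960.LaurentAway
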