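import Groth.Agent.LoccohA.GorBC
import Groth.Agent.GrProj.K960.LaurentAway
import Mathlib.AlgebraicGeometry.ProjectiveSpectrum.Proper
import Mathlib.AlgebraicGeometry.Noetherian
import Mathlib.AlgebraicGeometry.AffineScheme
import Mathlib.RingTheory.Flat.FaithfullyFlat.Basic
import Mathlib.Algebra.Group.Pointwise.Set.Basic
import Mathlib.RingTheory.Spectrum.Prime.Jacobson

/-!
# Descent of the Gorenstein property along faithfully flat ring maps, and local rings of `Proj`
-/

set_option autoImplicit false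
universe u

namespace K960.GorDescent

open AlgebraicGeometry CategoryTheory Groth.Agent Pointwise

theorem isNoetherianRing_of_faithfullyFlat (A B : Type*) [CommRing A] [CommRing B] [Algebra A B]
    [Module.FaithfullyFlat A B] [IsNoetherianRing B] : IsNoetherianRing A := by
  rw [isNoetherianRing_iff, isNoetherian_iff']
  have hinj : Function.Injective (fun I : Ideal A => I.map (algebraMap A B)) := by
    intro I J h
    have h' : I.map (algebraMap A B) = J.map (algebraMap A B) := h
    rw [← Ideal.comap_map_eq_self_of_faithfullyFlat (B := B) I, h',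
      Ideal.comap_map_eq_self_of_faithfullyFlat (B := B) J]
  have hmono0 : Monotone (fun I : Ideal A => I.map (algebraMap A B)) :=
    fun I J h => Ideal.map_mono h
  have hmono : StrictMono (fun I : Ideal A => I.map (algebraMap A B)) :=
    hmono0.strictMono_of_injective hinj
  have hB : WellFoundedGT (Ideal B) := isNoetherian_iff'.1 (isNoetherianRing_iff.1 inferInstance)
  exact StrictMono.wellFoundedGT hmono

/-- descent of Gorenstein rings along faithfully flat maps. -/
theorem isGorensteinRing_of_faithfullyFlat (A B : Type u) [CommRing A] [CommRing B] [Algebra A B]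
    [Module.FaithfullyFlat A B] (hB : LocCoh.IsGorensteinRing B) : LocCoh.IsGorensteinRing A := by
  have hNB : IsNoetherianRing B := inferInstance
  have hNA : IsNoetherianRing A := isNoetherianRing_of_faithfullyFlat A B
  refine { isGorensteinLocalRing_localization := fun p hp => ?_ }
  obtain ⟨⟨q, hq⟩, hqp⟩ := PrimeSpectrum.comap_surjective_of_faithfullyFlat (A := A) (B := B) ⟨p, hp⟩
  have hover : q.LiesOver p := ⟨(congrArg PrimeSpectrum.asIdeal hqp).symm⟩
  let := Localization.AtPrime.algebraOfLiesOver p q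
  have hloc : IsLocalHom (algebraMap (Localization.AtPrime p) (Localization.AtPrime q)) :=
    Localization.isLocalHom_localRingHom p q (algebraMap A B) Ideal.LiesOver.over
  exact ((S0344.result (Localization.AtPrime p) (Localization.AtPrime q)).1
    (hB.isGorensteinLocalRing_localization q)).1

set_option backward.isDefEq.respectTransparency false in
theorem gor_stalk_iff {X : Scheme.{u}} (A : Type u) [CommRing A]
    (j : Spec (CommRingCat.of A) ⟶ X) [IsOpenImmersion j] (p : PrimeSpectrum A) :
    LocCoh.IsGorensteinLocalRing (X.presheaf.stalk (j p)) ↔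
      LocCoh.IsGorensteinLocalRing (Localization.AtPrime p.asIdeal) := by
  have e1 : X.presheaf.stalk (j p) ≃+* (Spec (CommRingCat.of A)).presheaf.stalk p :=
    (asIso (j.stalkMap p)).commRingCatIsoToRingEquiv
  have e2 : (Spec (CommRingCat.of A)).presheaf.stalk p ≃+* Localization.AtPrime p.asIdeal :=
    (StructureSheaf.stalkIso A p).toRingEquiv.symm
  exact ⟨fun h => LoccohA.GorBC.isGorensteinLocalRing_of_ringEquiv (e1.trans e2) h,
    fun h => LoccohA.GorBC.isGorensteinLocalRing_of_ringEquiv (e1.trans e2).symm h⟩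

section Proj

variable {A : Type u} [CommRing A] (𝒜 : ℕ → AddSubgroup A) [GradedRing 𝒜]

/-- Under condition (#), every large degree contains an element outside a relevant homogeneous
prime. -/
theorem exists_mem_not_mem (d₀ : ℕ)
    (hsharp : ∀ d : ℕ, d₀ ≤ d → ∀ n : ℕ, 1 ≤ n → 𝒜 ((n + 1) * d) =
      AddSubgroup.closure ((𝒜 d : Set A) * (𝒜 (n * d) : Set A)))
    (x : Proj 𝒜) (d : ℕ) (hd : d₀ ≤ d) :
    ∃ f ∈ 𝒜 d, f ∉ (ProjectiveSpectrum.asHomogeneousIdeal x).toIdeal := by
  have hp : (ProjectiveSpectrum.asHomogeneousIdeal x).toIdeal.IsPrime := x.isPrime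
  obtain ⟨a, ha, hax⟩ := SetLike.not_le_iff_exists.1 x.not_irrelevant_le
  have h1 : ∃ e : ℕ, 0 < e ∧ ((DirectSum.decompose 𝒜 a e : 𝒜 e) : A) ∉
      (ProjectiveSpectrum.asHomogeneousIdeal x).toIdeal := by
    by_contra hcon
    push Not at hcon
    apply hax
    change a ∈ (ProjectiveSpectrum.asHomogeneousIdeal x).toIdeal
    classical
    rw [← DirectSum.sum_support_decompose 𝒜 a]
    refine Ideal.sum_mem _ fun i _ => ?_
    rcases Nat.eq_zero_or_pos i with rfl | hi
    · have h0 : ((DirectSum.decompose 𝒜 a 0 : 𝒜 0) : A) = 0 := by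
        have := (HomogeneousIdeal.mem_irrelevant_iff 𝒜 a).1 ha
        simpa [GradedRing.proj_apply] using this
      rw [h0]; exact Ideal.zero_mem _
    · exact hcon i hi
  obtain ⟨e, he, hea⟩ := h1
  set b : A := ((DirectSum.decompose 𝒜 a e : 𝒜 e) : A) with hb
  have hbe : b ∈ 𝒜 e := SetLike.coe_mem _
  have hbd : b ^ d ∈ 𝒜 (e * d) := by
    have := SetLike.pow_mem_graded d hbe
    rwa [smul_eq_mul, mul_comm] at this
  have hbd' : b ^ d ∉ (ProjectiveSpectrum.asHomogeneousIdeal x).toIdeal := fun h =>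
    hea (hp.mem_of_pow_mem d h)
  by_contra hcon
  push Not at hcon
  apply hbd'
  obtain ⟨n, rfl⟩ : ∃ n, e = n + 1 := ⟨e - 1, by omega⟩
  rcases Nat.eq_zero_or_pos n with rfl | hn
  · refine hcon _ ?_
    simpa using hbd
  · rw [hsharp d hd n hn] at hbd
    refine AddSubgroup.closure_induction (p := fun z _ => z ∈
      (ProjectiveSpectrum.asHomogeneousIdeal x).toIdeal) ?_ (Ideal.zero_mem _)
      (fun _ _ _ _ h1 h2 => Ideal.add_mem _ h1 h2) (fun _ _ h => neg_mem h) hbd
    rintro z ⟨z1, hz1, z2, hz2, rfl⟩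
    exact Ideal.mul_mem_right _ _ (hcon z1 hz1)

theorem stalk_gorenstein [LocCoh.IsGorensteinRing A]
    (hsharp : ∃ d₀ : ℕ, ∀ d : ℕ, d₀ ≤ d → ∀ n : ℕ, 1 ≤ n → 𝒜 ((n + 1) * d) =
      AddSubgroup.closure ((𝒜 d : Set A) * (𝒜 (n * d) : Set A))) (x : Proj 𝒜) :
    LocCoh.IsGorensteinLocalRing ((Proj 𝒜).presheaf.stalk x) := by
  obtain ⟨d₀, hsharp⟩ := hsharp
  have hp : (ProjectiveSpectrum.asHomogeneousIdeal x).toIdeal.IsPrime := x.isPrime
  obtain ⟨f, hf, hfx⟩ := exists_mem_not_mem 𝒜 d₀ hsharp x (d₀ + 1) (by omega)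
  obtain ⟨g, hg, hgx⟩ := exists_mem_not_mem 𝒜 d₀ hsharp x (d₀ + 1 + 1) (by omega)
  obtain ⟨u, hu⟩ := LaurentAway.exists_isUnitDegOne hf hg
  have hfree := LaurentAway.free_away hu
  have hfg : f * g ∉ (ProjectiveSpectrum.asHomogeneousIdeal x).toIdeal := fun h =>
    (hp.mem_or_mem h).elim hfx hgx
  have hmem := hu.mem
  have hx : x ∈ (Proj.awayι 𝒜 (f * g) hmem (by omega)).opensRange := by
    rw [Proj.opensRange_awayι]; exact hfg
  obtain ⟨y, hy⟩ := hx
  have hnt : Nontrivial (HomogeneousLocalization.Away 𝒜 (f * g)) := by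
    have : Nonempty (PrimeSpectrum (HomogeneousLocalization.Away 𝒜 (f * g))) := ⟨y⟩
    exact PrimeSpectrum.nonempty_iff_nontrivial.1 this
  have hnt2 : Nontrivial (Localization.Away (f * g)) :=
    (HomogeneousLocalization.val_injective (𝒜 := 𝒜) (Submonoid.powers (f * g))).nontrivial
  have hff : Module.FaithfullyFlat (HomogeneousLocalization.Away 𝒜 (f * g))
    (Localization.Away (f * g)) := inferInstance
  have hG : LocCoh.IsGorensteinRing (Localization.Away (f * g)) :=
    LoccohA.GorBC.isGorensteinRing_of_isLocalization (Submonoid.powers (f * g)) ‹_›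
  have hG0 := isGorensteinRing_of_faithfullyFlat (HomogeneousLocalization.Away 𝒜 (f * g))
    (Localization.Away (f * g)) hG
  have hy' : Proj.awayι 𝒜 (f * g) hmem (by omega) y = x := hy
  rw [← hy']
  let y' : PrimeSpectrum (HomogeneousLocalization.Away 𝒜 (f * g)) := y
  have hy'p : y'.asIdeal.IsPrime := y'.isPrime
  exact (gor_stalk_iff _ _ y').2 (hG0.isGorensteinLocalRing_localization y'.asIdeal)

end Proj

end K960.GorDescent
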